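import Mathlib.AlgebraicGeometry.ProjectiveSpectrum.Functor
import Mathlib.RingTheory.IsTensorProduct
import Mathlib.Algebra.Category.Ring.Constructions

/-!
# Degree zero localisations commute with base change
-/

set_option autoImplicit false
set_option synthInstance.maxHeartbeats 400000
set_option maxHeartbeats 800000
universe u
open CategoryTheory HomogeneousLocalization DirectSum TensorProduct

namespace Groth.Agent.ProjBC

variable {R R' A B : Type u} [CommRing R'] [CommRing R] [Algebra R' R] [CommRing B] [Algebra R' B]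
  (ℬ : ℕ → Submodule R' B) [GradedAlgebra ℬ] [CommRing A] [Algebra R A] [Algebra R' A] [IsScalarTower R' R A]
  (𝒜 : ℕ → Submodule R A) [GradedAlgebra 𝒜] [Algebra B A] [IsScalarTower R' B A] [Algebra.IsPushout R' R B A]
  (φ : ℬ →+*ᵍ 𝒜) (hφA : ∀ b : B, φ b = algebraMap B A b)

/-- The base ring acting on a chart. -/
noncomputable def base {S T : Type u} [CommRing S] [CommRing T] [Algebra S T] (𝒯 : ℕ → Submodule S T)
    [GradedAlgebra 𝒯] (g : T) : S →+* Away 𝒯 g :=
  (fromZeroRingHom 𝒯 _).comp (algebraMap S (𝒯 0))

theorem base_val {S T : Type u} [CommRing S] [CommRing T] [Algebra S T] (𝒯 : ℕ → Submodule S T)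
    [GradedAlgebra 𝒯] (g : T) (r : S) :
    (base 𝒯 g r).val = algebraMap T (Localization.Away g) (algebraMap S T r) := by
  change (HomogeneousLocalization.mk _ : Away 𝒯 g).val = _
  rw [HomogeneousLocalization.val_mk]
  exact Localization.mk_one_eq_algebraMap _

/-- The algebra structure of a chart over the base. -/
@[reducible]
noncomputable def algebraAway {S T : Type u} [CommRing S] [CommRing T] [Algebra S T] (𝒯 : ℕ → Submodule S T)
    [GradedAlgebra 𝒯] (g : T) : Algebra S (Away 𝒯 g) where
  smul := (· • ·)
  algebraMap := base 𝒯 g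
  commutes' _ _ := mul_comm _ _
  smul_def' r z := by
    apply HomogeneousLocalization.val_injective
    refine (HomogeneousLocalization.val_smul _ r z).trans ?_
    rw [HomogeneousLocalization.val_mul, base_val, ← IsScalarTower.algebraMap_apply, Algebra.smul_def]

variable {ℬ} {b : B} {d : ℕ} (hb : b ∈ ℬ d)

/-- `y ↦ y_{kd} / b^k`. -/
noncomputable def theta (k : ℕ) :
    letI : Algebra R' (Away ℬ b) := algebraAway ℬ b
    B →ₗ[R'] Away ℬ b :=
  letI : Algebra R' (Away ℬ b) := algebraAway ℬ b
  { toFun := fun y => Away.mk ℬ hb k (decompose ℬ y (k • d) : B) (decompose ℬ y (k • d)).2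
    map_add' := fun x y => by
      apply HomogeneousLocalization.val_injective
      rw [HomogeneousLocalization.val_add, Away.val_mk, Away.val_mk, Away.val_mk, Localization.add_mk_self]
      simp [decompose_add]
    map_smul' := fun r y => by
      apply HomogeneousLocalization.val_injective
      refine Eq.trans ?_ (HomogeneousLocalization.val_smul _ r _).symm
      rw [Away.val_mk, Away.val_mk, Localization.smul_mk]
      congr 1
      rw [decompose_smul]
      rfl }

theorem val_theta (k : ℕ) (y : B) :
    (theta hb k y).val = Localization.mk (decompose ℬ y (k • d) : B) (⟨b ^ k, k, rfl⟩ : Submonoid.powers b) := rfl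

theorem theta_mul (k j : ℕ) (y : B) : theta hb (k + j) (b ^ j * y) = theta hb k y := by
  apply HomogeneousLocalization.val_injective
  rw [val_theta, val_theta, Localization.mk_eq_mk_iff, Localization.r_iff_exists]
  refine ⟨1, ?_⟩
  have hbj : b ^ j ∈ ℬ (j • d) := SetLike.pow_mem_graded j hb
  simp only [OneMemClass.coe_one, one_mul, pow_add]
  rw [coe_decompose_mul_of_left_mem_of_le ℬ hbj (by simp only [smul_eq_mul]; exact Nat.mul_le_mul_right d (by omega)), show (k + j) • d - j • d = k • d by simp [add_mul]]
  ring

include hφA hb in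
/-- The degree zero part of a localisation is a base change. -/
theorem isPushout_away :
    IsPushout (CommRingCat.ofHom (algebraMap R' R)) (CommRingCat.ofHom (base ℬ b))
      (CommRingCat.ofHom (base 𝒜 (φ b))) (CommRingCat.ofHom (Away.map φ b)) := by
  classical
  let _ : Algebra R' (Away ℬ b) := algebraAway ℬ b
  let _ : Algebra R (Away 𝒜 (φ b)) := algebraAway 𝒜 (φ b)
  let _ : Algebra R' (Away 𝒜 (φ b)) :=
    { smul := fun r z => algebraMap R' R r • z
      algebraMap := (base 𝒜 (φ b)).comp (algebraMap R' R)
      commutes' := fun _ _ => mul_comm _ _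
      smul_def' := fun r z => Algebra.smul_def (R := R) (algebraMap R' R r) z }
  have : @IsScalarTower R' R (Away 𝒜 (φ b)) _ Algebra.toSMul Algebra.toSMul := ⟨fun x y z => by
    show (x • y) • z = algebraMap R' R x • y • z
    apply HomogeneousLocalization.val_injective
    rw [HomogeneousLocalization.val_smul, HomogeneousLocalization.val_smul, HomogeneousLocalization.val_smul,
      smul_smul, Algebra.smul_def x y]⟩
  have hφR : ∀ r : R', φ (algebraMap R' B r) = algebraMap R A (algebraMap R' R r) := fun r => by
    rw [hφA, ← IsScalarTower.algebraMap_apply R' B A, ← IsScalarTower.algebraMap_apply R' R A]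
  let ψ : Away ℬ b →ₐ[R'] Away 𝒜 (φ b) :=
    { Away.map φ b with
      commutes' := fun r => by
        apply HomogeneousLocalization.val_injective
        show (Away.map φ b (base ℬ b r)).val = (base 𝒜 (φ b) (algebraMap R' R r)).val
        obtain ⟨k, x, hx, he⟩ := Away.mk_surjective _ hb (base ℬ b r)
        rw [← he, Away.map_mk, Away.val_mk, base_val, ← hφR]
        have e := congrArg HomogeneousLocalization.val he
        rw [Away.val_mk, base_val, ← Localization.mk_one_eq_algebraMap, Localization.mk_eq_mk_iff,
          Localization.r_iff_exists] at e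
        obtain ⟨⟨_, l, rfl⟩, hl⟩ := e
        rw [← Localization.mk_one_eq_algebraMap, Localization.mk_eq_mk_iff, Localization.r_iff_exists]
        refine ⟨⟨φ b ^ l, l, rfl⟩, ?_⟩
        have := congrArg φ hl
        simpa [map_mul, map_pow] using this }
  let L : R ⊗[R'] Away ℬ b →ₐ[R] Away 𝒜 (φ b) :=
    Algebra.TensorProduct.lift (Algebra.ofId R _) ψ (fun _ _ => Commute.all _ _)
  let eA : R ⊗[R'] B ≃ₐ[R] A := Algebra.IsPushout.equiv R' R B A
  have heA : ∀ (r : R) (y : B), eA (r ⊗ₜ[R'] y) = algebraMap R A r * φ y := fun r y => by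
    rw [hφA]; exact Algebra.IsPushout.equiv_tmul ..
  let T : ℕ → (R ⊗[R'] B →ₗ[R'] R ⊗[R'] Away ℬ b) := fun k => (theta hb k).lTensor R
  let P : ℕ → (R ⊗[R'] B →ₗ[R'] R ⊗[R'] B) := fun k =>
    LinearMap.lTensor R ((ℬ (k • d)).subtype ∘ₗ (DirectSum.component R' ℕ (fun i => ℬ i) (k • d)) ∘ₗ
      (decomposeLinearEquiv ℬ).toLinearMap)
  let μ : ℕ → (R ⊗[R'] B →ₗ[R'] R ⊗[R'] B) := fun j => LinearMap.lTensor R (LinearMap.mulLeft R' (b ^ j))
  have hP : ∀ (k : ℕ) (r : R) (y : B), P k (r ⊗ₜ[R'] y) = r ⊗ₜ[R'] (decompose ℬ y (k • d) : B) :=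
    fun _ _ _ => rfl
  have hTP : ∀ k w, T k (P k w) = T k w := fun k w => by
    induction w using TensorProduct.induction_on with
    | zero => simp
    | tmul r y =>
      rw [hP]
      refine congrArg (r ⊗ₜ[R'] ·) (HomogeneousLocalization.val_injective _ ?_)
      rw [val_theta, val_theta]
      simp only [decompose_of_mem_same ℬ (decompose ℬ y (k • d)).2]
    | add v w hv hw => rw [map_add, map_add, map_add, hv, hw]
  have hTμ : ∀ k j w, T (k + j) (μ j w) = T k w := fun k j w => by
    induction w using TensorProduct.induction_on with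
    | zero => simp
    | tmul r y => exact congrArg (r ⊗ₜ[R'] ·) (theta_mul hb k j y)
    | add v w hv hw => rw [map_add, map_add, map_add, hv, hw]
  have hEμ : ∀ j w, eA (μ j w) = φ b ^ j * eA w := fun j w => by
    induction w using TensorProduct.induction_on with
    | zero => simp
    | tmul r y =>
      show eA (r ⊗ₜ[R'] (b ^ j * y)) = _
      rw [heA, heA, map_mul, map_pow]
      ring
    | add v w hv hw => rw [map_add, map_add, map_add, hv, hw, mul_add]
  have hEP : ∀ k w, eA (P k w) = (decompose 𝒜 (eA w) (k • d) : A) := fun k w => by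
    induction w using TensorProduct.induction_on with
    | zero => simp
    | tmul r y =>
      rw [hP, heA, heA, ← Algebra.smul_def, ← Algebra.smul_def, decompose_smul, DirectSum.smul_apply,
        Submodule.coe_smul]
      congr 1
      conv_rhs => rw [← DirectSum.sum_support_decompose ℬ y, map_sum, decompose_sum, DFinsupp.finsetSum_apply,
        AddSubmonoidClass.coe_finsetSum]
      rw [Finset.sum_eq_single (k • d)]
      · rw [decompose_of_mem_same 𝒜 (Graded.map_mem φ (decompose ℬ y (k • d)).2)]
      · intro i _ hi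
        exact decompose_of_mem_ne 𝒜 (Graded.map_mem φ (decompose ℬ y i).2) hi
      · intro hc
        rw [DFinsupp.notMem_support_iff.mp hc]
        simp
    | add v w hv hw => rw [map_add, map_add, hv, hw, map_add, decompose_add, DirectSum.add_apply, Submodule.coe_add]
  have hL : ∀ k w, (L (T k w)).val = Localization.mk (eA (P k w)) (⟨φ b ^ k, k, rfl⟩ : Submonoid.powers (φ b)) := fun k w => by
    induction w using TensorProduct.induction_on with
    | zero => simp [Localization.mk_zero]
    | tmul r y =>
      rw [show T k (r ⊗ₜ[R'] y) = r ⊗ₜ[R'] theta hb k y from rfl, Algebra.TensorProduct.lift_tmul]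
      show (algebraMap R (Away 𝒜 (φ b)) r * Away.map φ b (theta hb k y)).val = _
      rw [HomogeneousLocalization.val_mul, show algebraMap R (Away 𝒜 (φ b)) = base 𝒜 (φ b) from rfl, base_val, hP, heA]
      show _ * (Away.map φ b (Away.mk ℬ hb k _ _)).val = _
      rw [Away.map_mk, Away.val_mk, ← Localization.mk_one_eq_algebraMap, Localization.mk_mul]
      congr 1
      exact Subtype.ext (one_mul _)
    | add v w hv hw => rw [map_add, map_add, HomogeneousLocalization.val_add, hv, hw, map_add, map_add, Localization.add_mk_self]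
  have hex : ∀ z, ∃ k w, T k w = z := fun z => by
    induction z using TensorProduct.induction_on with
    | zero => exact ⟨0, 0, map_zero _⟩
    | tmul r c =>
      obtain ⟨k, x, hx, rfl⟩ := Away.mk_surjective _ hb c
      refine ⟨k, r ⊗ₜ[R'] x, congrArg (r ⊗ₜ[R'] ·) (HomogeneousLocalization.val_injective _ ?_)⟩
      rw [val_theta, Away.val_mk]
      simp only [decompose_of_mem_same ℬ hx]
    | add v w hv hw =>
      obtain ⟨k, v', rfl⟩ := hv
      obtain ⟨j, w', rfl⟩ := hw
      exact ⟨k + j, μ j v' + μ k w', by rw [map_add, hTμ, add_comm k j, hTμ]⟩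
  have hbij : Function.Bijective L := by
    refine ⟨(injective_iff_map_eq_zero L).mpr fun z hz => ?_, fun c => ?_⟩
    · obtain ⟨k, w, rfl⟩ := hex z
      have h1 := hL k w
      rw [hz, HomogeneousLocalization.val_zero, ← Localization.mk_zero (1 : Submonoid.powers (φ b)),
        Localization.mk_eq_mk_iff, Localization.r_iff_exists] at h1
      obtain ⟨⟨_, N, rfl⟩, hN⟩ := h1
      simp only [OneMemClass.coe_one, one_mul, mul_zero] at hN
      have h2 : μ N (P k w) = 0 := eA.injective (by rw [hEμ, map_zero]; exact hN.symm)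
      rw [← hTP, ← hTμ k N, h2, map_zero]
    · obtain ⟨k, a, ha, rfl⟩ := Away.mk_surjective _ (Graded.map_mem φ hb) c
      refine ⟨T k (eA.symm a), HomogeneousLocalization.val_injective _ ?_⟩
      rw [hL, hEP, AlgEquiv.apply_symm_apply, decompose_of_mem_same 𝒜 ha, Away.val_mk]
  let e := (AlgEquiv.ofBijective L hbij).toRingEquiv.toCommRingCatIso
  refine (CommRingCat.isPushout_tensorProduct R' R (Away ℬ b)).of_iso (Iso.refl _) (Iso.refl _) (Iso.refl _) e
    (by simp) (by simp) ?_ ?_
  · ext r
    simp [e, L]
    rfl
  · ext c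
    simp [e, L]
    rfl

end Groth.Agent.ProjBC
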