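import Groth.Agent.ProjBC.Degree
import Mathlib.AlgebraicGeometry.Pullbacks
import Mathlib.AlgebraicGeometry.Morphisms.Basic

/-!
# `Proj` commutes with base change
-/

set_option autoImplicit false
set_option synthInstance.maxHeartbeats 400000
set_option maxHeartbeats 800000
universe u
open CategoryTheory CategoryTheory.Limits AlgebraicGeometry HomogeneousLocalization

namespace Groth.Agent.ProjBC

variable {R R' A B : Type u} [CommRing R'] [CommRing R] [Algebra R' R] [CommRing B] [Algebra R' B]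
  (ℬ : ℕ → Submodule R' B) [GradedAlgebra ℬ] [CommRing A] [Algebra R A] [Algebra R' A] [IsScalarTower R' R A]
  (𝒜 : ℕ → Submodule R A) [GradedAlgebra 𝒜] [Algebra B A] [IsScalarTower R' B A] [Algebra.IsPushout R' R B A]

theorem awayι_base {S T : Type u} [CommRing S] [CommRing T] [Algebra S T] (𝒯 : ℕ → Submodule S T)
    [GradedAlgebra 𝒯] {g : T} {d : ℕ} (hg : g ∈ 𝒯 d) (hd : 0 < d) :
    Proj.awayι 𝒯 g hg hd ≫ Proj.toSpecZero 𝒯 ≫ Spec.map (CommRingCat.ofHom (algebraMap S (𝒯 0))) =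
      Spec.map (CommRingCat.ofHom (base 𝒯 g)) := by
  rw [Proj.awayι_toSpecZero_assoc, ← Spec.map_comp, ← CommRingCat.ofHom_comp]
  rfl

theorem isPullback_proj (φ : ℬ →+*ᵍ 𝒜) (hφA : ∀ b : B, φ b = algebraMap B A b)
    (hφ : HomogeneousIdeal.irrelevant 𝒜 ≤ (HomogeneousIdeal.irrelevant ℬ).map φ) :
    IsPullback (Proj.map φ hφ)
      (Proj.toSpecZero 𝒜 ≫ Spec.map (CommRingCat.ofHom (algebraMap R (𝒜 0))))
      (Proj.toSpecZero ℬ ≫ Spec.map (CommRingCat.ofHom (algebraMap R' (ℬ 0))))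
      (Spec.map (CommRingCat.ofHom (algebraMap R' R))) := by
  set fA := Proj.toSpecZero 𝒜 ≫ Spec.map (CommRingCat.ofHom (algebraMap R (𝒜 0))) with hfA
  set fB := Proj.toSpecZero ℬ ≫ Spec.map (CommRingCat.ofHom (algebraMap R' (ℬ 0))) with hfB
  set g := Spec.map (CommRingCat.ofHom (algebraMap R' R)) with hg
  let 𝒰 := (Proj.affineOpenCover ℬ).openCover
  have small : ∀ (b : B) (d : ℕ) (hb : b ∈ ℬ d) (hd : 0 < d),
      IsPullback (Spec.map (CommRingCat.ofHom (Away.map φ b)))
        (Proj.awayι 𝒜 (φ b) (Graded.map_mem φ hb) hd ≫ fA) (Proj.awayι ℬ b hb hd ≫ fB) g := fun b d hb hd => by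
    rw [awayι_base 𝒜 (Graded.map_mem φ hb) hd, awayι_base ℬ hb hd]
    exact isPullback_SpecMap_of_isPushout _ _ _ _ (isPushout_away 𝒜 φ hφA hb).flip
  have w : Proj.map φ hφ ≫ fB = fA ≫ g := by
    refine (Proj.mapAffineOpenCover φ hφ).openCover.hom_ext _ _ fun ⟨⟨d, hd⟩, ⟨b, hb⟩⟩ => ?_
    show Proj.awayι 𝒜 (φ b) (Graded.map_mem φ hb) hd ≫ Proj.map φ hφ ≫ fB =
      Proj.awayι 𝒜 (φ b) (Graded.map_mem φ hb) hd ≫ fA ≫ g
    exact (Proj.awayι_comp_map_assoc φ hφ hd b hb fB).trans
      (((small b d hb hd).w).trans (Category.assoc _ _ _))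
  let u := pullback.lift (Proj.map φ hφ) fA w
  suffices IsIso u from IsPullback.of_iso_pullback ⟨w⟩ (asIso u)
    (pullback.lift_fst _ _ _) (pullback.lift_snd _ _ _)
  refine (IsZariskiLocalAtTarget.iff_of_openCover (P := MorphismProperty.isomorphisms Scheme.{u})
    (Precoverage.ZeroHypercover.pullback₁ (pullback.fst fB g) 𝒰)).mpr fun ⟨⟨d, hd⟩, ⟨b, hb'⟩⟩ => ?_
  have hb : b ∈ ℬ d := hb'
  simp only [MorphismProperty.isomorphisms.iff]
  let ιB := Proj.awayι ℬ b hb hd
  let ιA := Proj.awayι 𝒜 (φ b) (Graded.map_mem φ hb) hd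
  have hsq : IsPullback ιA (Spec.map (CommRingCat.ofHom (Away.map φ b))) (Proj.map φ hφ) ιB := by
    refine (IsOpenImmersion.isPullback _ _ _ _ (Proj.awayι_comp_map φ hφ hd b hb) ?_).flip
    rw [Proj.opensRange_awayι, Proj.opensRange_awayι]
    rfl
  let P := pullback (pullback.fst fB g) ιB
  have hw : (ιA ≫ u) ≫ pullback.fst fB g = Spec.map (CommRingCat.ofHom (Away.map φ b)) ≫ ιB := by
    simp only [u, Category.assoc, pullback.lift_fst]
    exact hsq.w
  let wi : Spec (CommRingCat.of (Away 𝒜 (φ b))) ⟶ P := pullback.lift (ιA ≫ u) _ hw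
  have h1 : IsPullback (pullback.snd (pullback.fst fB g) ιB) (pullback.fst (pullback.fst fB g) ιB ≫ pullback.snd fB g)
      (ιB ≫ fB) g :=
    ((IsPullback.of_hasPullback (pullback.fst fB g) ιB).paste_horiz (IsPullback.of_hasPullback fB g).flip).flip
  have hwi : IsIso wi := by
    have e : wi = ((small b d hb hd).isoIsPullback _ _ h1).hom := by
      apply h1.hom_ext
      · rw [IsPullback.isoIsPullback_hom_fst]; exact pullback.lift_snd _ _ _
      · rw [IsPullback.isoIsPullback_hom_snd]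
        refine (Category.assoc _ _ _).symm.trans ?_
        rw [show wi ≫ pullback.fst (pullback.fst fB g) ιB = ιA ≫ u from pullback.lift_fst _ _ _]
        exact (Category.assoc _ _ _).trans (congrArg (ιA ≫ ·) (pullback.lift_snd _ _ _))
    rw [e]; infer_instance
  have hleft : IsPullback ιA wi u (pullback.fst (pullback.fst fB g) ιB) := by
    refine IsPullback.of_bot ?_ (pullback.lift_fst _ _ _).symm (IsPullback.of_hasPullback (pullback.fst fB g) ιB)
    rw [show wi ≫ pullback.snd (pullback.fst fB g) ιB = Spec.map (CommRingCat.ofHom (Away.map φ b)) from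
      pullback.lift_snd _ _ _, show u ≫ pullback.fst fB g = Proj.map φ hφ from pullback.lift_fst _ _ _]
    exact hsq
  have hfin : IsIso (pullback.snd u (pullback.fst (pullback.fst fB g) ιB)) := by
    rw [← hleft.isoPullback_inv_snd]; infer_instance
  exact hfin

end Groth.Agent.ProjBC
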